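import Cfsg.Agent.H0.VMcLp3.D0
import Cfsg.Agent.H0.VMcLp3.D1
import Cfsg.Agent.H0.VMcLp3.D2
import Cfsg.Agent.H0.VMcLp3.D3
import Cfsg.Agent.H0.Cover
import Cfsg.Agent.H0.MMcLp.D
set_option maxRecDepth 100000
set_option Elab.async false
set_option linter.unusedSectionVars false
namespace H0.VMcLp3
open H0 BN 
noncomputable def n0 : Net := (Net.cons (nat_lit 65536) n0m0 (Net.cons (nat_lit 32768) n0m1 (Net.cons (nat_lit 16384) n0m2 (Net.cons (nat_lit 8192) n0m3 (Net.cons (nat_lit 4096) n0m4 (Net.cons (nat_lit 2048) n0m5 (Net.cons (nat_lit 1024) n0m6 (Net.cons (nat_lit 512) n0m7 (Net.cons (nat_lit 256) n0m8 (Net.cons (nat_lit 128) n0m9 (Net.cons (nat_lit 64) n0m10 (Net.cons (nat_lit 32) n0m11 (Net.cons (nat_lit 16) n0m12 (Net.cons (nat_lit 8) n0m13 (Net.cons (nat_lit 4) n0m14 (Net.cons (nat_lit 2) n0m15 (Net.cons (nat_lit 1) n0m16 (Net.cons (nat_lit 2) n0m17 (Net.cons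 (nat_lit 4) n0m18 (Net.cons (nat_lit 8) n0m19 (Net.cons (nat_lit 16) n0m20 (Net.cons (nat_lit 32) n0m21 (Net.cons (nat_lit 64) n0m22 (Net.cons (nat_lit 128) n0m23 (Net.cons (nat_lit 256) n0m24 (Net.cons (nat_lit 512) n0m25 (Net.cons (nat_lit 1024) n0m26 (Net.cons (nat_lit 2048) n0m27 (Net.cons (nat_lit 4096) n0m28 (Net.cons (nat_lit 8192) n0m29 (Net.cons (nat_lit 16384) n0m30 (Net.cons (nat_lit 32768) n0m31 (Net.cons (nat_lit 65536) n0m32 Net.nil)))))))))))))))))))))))))))))))))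
noncomputable def n1 : Net := (Net.cons (nat_lit 65536) n1m0 (Net.cons (nat_lit 32768) n1m1 (Net.cons (nat_lit 16384) n1m2 (Net.cons (nat_lit 8192) n1m3 (Net.cons (nat_lit 4096) n1m4 (Net.cons (nat_lit 2048) n1m5 (Net.cons (nat_lit 1024) n1m6 (Net.cons (nat_lit 512) n1m7 (Net.cons (nat_lit 256) n1m8 (Net.cons (nat_lit 128) n1m9 (Net.cons (nat_lit 64) n1m10 (Net.cons (nat_lit 32) n1m11 (Net.cons (nat_lit 16) n1m12 (Net.cons (nat_lit 8) n1m13 (Net.cons (nat_lit 4) n1m14 (Net.cons (nat_lit 2) n1m15 (Net.cons (nat_lit 1) n1m16 (Net.cons (nat_lit 2) n1m17 (Net.cons (nat_lit 4) n1m18 (Net.cons (nat_lit 8) n1m19 (Net.cons (nat_lit 16) n1m20 (Net.cons (nat_lit 32) n1m21 (Net.cons (nat_lit 64) n1m22 (Net.cons (nat_lit 128) n1m23 (Net.cons (nat_lit 256) n1m24 (Net.cons (nat_lit 512) n1m25 (Net.cons (nat_lit 1024) n1m26 (Net.cons (nat_lit 2048) n1m27 (Net.cons (nat_lit 4096)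 n1m28 (Net.cons (nat_lit 8192) n1m29 (Net.cons (nat_lit 16384) n1m30 (Net.cons (nat_lit 32768) n1m31 (Net.cons (nat_lit 65536) n1m32 Net.nil)))))))))))))))))))))))))))))))))
noncomputable def n2 : Net := (Net.cons (nat_lit 65536) n2m0 (Net.cons (nat_lit 32768) n2m1 (Net.cons (nat_lit 16384) n2m2 (Net.cons (nat_lit 8192) n2m3 (Net.cons (nat_lit 4096) n2m4 (Net.cons (nat_lit 2048) n2m5 (Net.cons (nat_lit 1024) n2m6 (Net.cons (nat_lit 512) n2m7 (Net.cons (nat_lit 256) n2m8 (Net.cons (nat_lit 128) n2m9 (Net.cons (nat_lit 64) n2m10 (Net.cons (nat_lit 32) n2m11 (Net.cons (nat_lit 16) n2m12 (Net.cons (nat_lit 8) n2m13 (Net.cons (nat_lit 4) n2m14 (Net.cons (nat_lit 2) n2m15 (Net.cons (nat_lit 1) n2m16 (Net.cons (nat_lit 2) n2m17 (Net.cons (nat_lit 4) n2m18 (Net.cons (nat_lit 8) n2m19 (Net.cons (nat_lit 16) n2m20 (Net.cons (nat_lit 32) n2m21 (Net.cons (nat_lit 64) n2m22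 (Net.cons (nat_lit 128) n2m23 (Net.cons (nat_lit 256) n2m24 (Net.cons (nat_lit 512) n2m25 (Net.cons (nat_lit 1024) n2m26 (Net.cons (nat_lit 2048) n2m27 (Net.cons (nat_lit 4096) n2m28 (Net.cons (nat_lit 8192) n2m29 (Net.cons (nat_lit 16384) n2m30 (Net.cons (nat_lit 32768) n2m31 (Net.cons (nat_lit 65536) n2m32 Net.nil)))))))))))))))))))))))))))))))))
noncomputable def n3 : Net := (Net.cons (nat_lit 65536) n3m0 (Net.cons (nat_lit 32768) n3m1 (Net.cons (nat_lit 16384) n3m2 (Net.cons (nat_lit 8192) n3m3 (Net.cons (nat_lit 4096) n3m4 (Net.cons (nat_lit 2048) n3m5 (Net.cons (nat_lit 1024) n3m6 (Net.cons (nat_lit 512) n3m7 (Net.cons (nat_lit 256) n3m8 (Net.cons (nat_lit 128) n3m9 (Net.cons (nat_lit 64) n3m10 (Net.cons (nat_lit 32) n3m11 (Net.cons (nat_lit 16) n3m12 (Net.cons (nat_lit 8) n3m13 (Net.cons (nat_lit 4) n3m14 (Net.cons (nat_lit 2) n3m15 (Net.cons (nat_lit 1)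 n3m16 (Net.cons (nat_lit 2) n3m17 (Net.cons (nat_lit 4) n3m18 (Net.cons (nat_lit 8) n3m19 (Net.cons (nat_lit 16) n3m20 (Net.cons (nat_lit 32) n3m21 (Net.cons (nat_lit 64) n3m22 (Net.cons (nat_lit 128) n3m23 (Net.cons (nat_lit 256) n3m24 (Net.cons (nat_lit 512) n3m25 (Net.cons (nat_lit 1024) n3m26 (Net.cons (nat_lit 2048) n3m27 (Net.cons (nat_lit 4096) n3m28 (Net.cons (nat_lit 8192) n3m29 (Net.cons (nat_lit 16384) n3m30 (Net.cons (nat_lit 32768) n3m31 (Net.cons (nat_lit 65536) n3m32 Net.nil)))))))))))))))))))))))))))))))))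
noncomputable def n4 : Net := (Net.cons (nat_lit 65536) n4m0 (Net.cons (nat_lit 32768) n4m1 (Net.cons (nat_lit 16384) n4m2 (Net.cons (nat_lit 8192) n4m3 (Net.cons (nat_lit 4096) n4m4 (Net.cons (nat_lit 2048) n4m5 (Net.cons (nat_lit 1024) n4m6 (Net.cons (nat_lit 512) n4m7 (Net.cons (nat_lit 256) n4m8 (Net.cons (nat_lit 128) n4m9 (Net.cons (nat_lit 64) n4m10 (Net.cons (nat_lit 32) n4m11 (Net.cons (nat_lit 16) n4m12 (Net.cons (nat_lit 8) n4m13 (Net.cons (nat_lit 4) n4m14 (Net.cons (nat_lit 2) n4m15 (Net.cons (nat_lit 1) n4m16 (Net.cons (nat_lit 2) n4m17 (Net.cons (nat_lit 4) n4m18 (Net.cons (nat_lit 8) n4m19 (Net.cons (nat_lit 16) n4m20 (Net.cons (nat_lit 32) n4m21 (Net.cons (nat_lit 64) n4m22 (Net.cons (nat_lit 128) n4m23 (Net.cons (nat_lit 256) n4m24 (Net.cons (nat_lit 512) n4m25 (Net.cons (nat_lit 1024) n4m26 (Net.cons (nat_lit 2048) n4m27 (Net.cons (nat_lit 4096)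 n4m28 (Net.cons (nat_lit 8192) n4m29 (Net.cons (nat_lit 16384) n4m30 (Net.cons (nat_lit 32768) n4m31 (Net.cons (nat_lit 65536) n4m32 Net.nil)))))))))))))))))))))))))))))))))
noncomputable def n5 : Net := (Net.cons (nat_lit 65536) n5m0 (Net.cons (nat_lit 32768) n5m1 (Net.cons (nat_lit 16384) n5m2 (Net.cons (nat_lit 8192) n5m3 (Net.cons (nat_lit 4096) n5m4 (Net.cons (nat_lit 2048) n5m5 (Net.cons (nat_lit 1024) n5m6 (Net.cons (nat_lit 512) n5m7 (Net.cons (nat_lit 256) n5m8 (Net.cons (nat_lit 128) n5m9 (Net.cons (nat_lit 64) n5m10 (Net.cons (nat_lit 32) n5m11 (Net.cons (nat_lit 16) n5m12 (Net.cons (nat_lit 8) n5m13 (Net.cons (nat_lit 4) n5m14 (Net.cons (nat_lit 2) n5m15 (Net.cons (nat_lit 1) n5m16 (Net.cons (nat_lit 2) n5m17 (Net.cons (nat_lit 4) n5m18 (Net.cons (nat_lit 8) n5m19 (Net.cons (nat_lit 16) n5m20 (Net.cons (nat_lit 32) n5m21 (Net.cons (nat_lit 64) n5m22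 (Net.cons (nat_lit 128) n5m23 (Net.cons (nat_lit 256) n5m24 (Net.cons (nat_lit 512) n5m25 (Net.cons (nat_lit 1024) n5m26 (Net.cons (nat_lit 2048) n5m27 (Net.cons (nat_lit 4096) n5m28 (Net.cons (nat_lit 8192) n5m29 (Net.cons (nat_lit 16384) n5m30 (Net.cons (nat_lit 32768) n5m31 (Net.cons (nat_lit 65536) n5m32 Net.nil)))))))))))))))))))))))))))))))))
noncomputable def n6 : Net := (Net.cons (nat_lit 65536) n6m0 (Net.cons (nat_lit 32768) n6m1 (Net.cons (nat_lit 16384) n6m2 (Net.cons (nat_lit 8192) n6m3 (Net.cons (nat_lit 4096) n6m4 (Net.cons (nat_lit 2048) n6m5 (Net.cons (nat_lit 1024) n6m6 (Net.cons (nat_lit 512) n6m7 (Net.cons (nat_lit 256) n6m8 (Net.cons (nat_lit 128) n6m9 (Net.cons (nat_lit 64) n6m10 (Net.cons (nat_lit 32) n6m11 (Net.cons (nat_lit 16) n6m12 (Net.cons (nat_lit 8) n6m13 (Net.cons (nat_lit 4) n6m14 (Net.cons (nat_lit 2) n6m15 (Net.cons (nat_lit 1)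 n6m16 (Net.cons (nat_lit 2) n6m17 (Net.cons (nat_lit 4) n6m18 (Net.cons (nat_lit 8) n6m19 (Net.cons (nat_lit 16) n6m20 (Net.cons (nat_lit 32) n6m21 (Net.cons (nat_lit 64) n6m22 (Net.cons (nat_lit 128) n6m23 (Net.cons (nat_lit 256) n6m24 (Net.cons (nat_lit 512) n6m25 (Net.cons (nat_lit 1024) n6m26 (Net.cons (nat_lit 2048) n6m27 (Net.cons (nat_lit 4096) n6m28 (Net.cons (nat_lit 8192) n6m29 (Net.cons (nat_lit 16384) n6m30 (Net.cons (nat_lit 32768) n6m31 (Net.cons (nat_lit 65536) n6m32 Net.nil)))))))))))))))))))))))))))))))))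
noncomputable def n7 : Net := (Net.cons (nat_lit 65536) n7m0 (Net.cons (nat_lit 32768) n7m1 (Net.cons (nat_lit 16384) n7m2 (Net.cons (nat_lit 8192) n7m3 (Net.cons (nat_lit 4096) n7m4 (Net.cons (nat_lit 2048) n7m5 (Net.cons (nat_lit 1024) n7m6 (Net.cons (nat_lit 512) n7m7 (Net.cons (nat_lit 256) n7m8 (Net.cons (nat_lit 128) n7m9 (Net.cons (nat_lit 64) n7m10 (Net.cons (nat_lit 32) n7m11 (Net.cons (nat_lit 16) n7m12 (Net.cons (nat_lit 8) n7m13 (Net.cons (nat_lit 4) n7m14 (Net.cons (nat_lit 2) n7m15 (Net.cons (nat_lit 1) n7m16 (Net.cons (nat_lit 2) n7m17 (Net.cons (nat_lit 4) n7m18 (Net.cons (nat_lit 8) n7m19 (Net.cons (nat_lit 16) n7m20 (Net.cons (nat_lit 32) n7m21 (Net.cons (nat_lit 64) n7m22 (Net.cons (nat_lit 128) n7m23 (Net.cons (nat_lit 256) n7m24 (Net.cons (nat_lit 512) n7m25 (Net.cons (nat_lit 1024) n7m26 (Net.cons (nat_lit 2048) n7m27 (Net.cons (nat_lit 4096)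 n7m28 (Net.cons (nat_lit 8192) n7m29 (Net.cons (nat_lit 16384) n7m30 (Net.cons (nat_lit 32768) n7m31 (Net.cons (nat_lit 65536) n7m32 Net.nil)))))))))))))))))))))))))))))))))
noncomputable def n8 : Net := (Net.cons (nat_lit 65536) n8m0 (Net.cons (nat_lit 32768) n8m1 (Net.cons (nat_lit 16384) n8m2 (Net.cons (nat_lit 8192) n8m3 (Net.cons (nat_lit 4096) n8m4 (Net.cons (nat_lit 2048) n8m5 (Net.cons (nat_lit 1024) n8m6 (Net.cons (nat_lit 512) n8m7 (Net.cons (nat_lit 256) n8m8 (Net.cons (nat_lit 128) n8m9 (Net.cons (nat_lit 64) n8m10 (Net.cons (nat_lit 32) n8m11 (Net.cons (nat_lit 16) n8m12 (Net.cons (nat_lit 8) n8m13 (Net.cons (nat_lit 4) n8m14 (Net.cons (nat_lit 2) n8m15 (Net.cons (nat_lit 1) n8m16 (Net.cons (nat_lit 2) n8m17 (Net.cons (nat_lit 4) n8m18 (Net.cons (nat_lit 8) n8m19 (Net.cons (nat_lit 16) n8m20 (Net.cons (nat_lit 32) n8m21 (Net.cons (nat_lit 64) n8m22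 (Net.cons (nat_lit 128) n8m23 (Net.cons (nat_lit 256) n8m24 (Net.cons (nat_lit 512) n8m25 (Net.cons (nat_lit 1024) n8m26 (Net.cons (nat_lit 2048) n8m27 (Net.cons (nat_lit 4096) n8m28 (Net.cons (nat_lit 8192) n8m29 (Net.cons (nat_lit 16384) n8m30 (Net.cons (nat_lit 32768) n8m31 (Net.cons (nat_lit 65536) n8m32 Net.nil)))))))))))))))))))))))))))))))))
noncomputable def n9 : Net := (Net.cons (nat_lit 65536) n9m0 (Net.cons (nat_lit 32768) n9m1 (Net.cons (nat_lit 16384) n9m2 (Net.cons (nat_lit 8192) n9m3 (Net.cons (nat_lit 4096) n9m4 (Net.cons (nat_lit 2048) n9m5 (Net.cons (nat_lit 1024) n9m6 (Net.cons (nat_lit 512) n9m7 (Net.cons (nat_lit 256) n9m8 (Net.cons (nat_lit 128) n9m9 (Net.cons (nat_lit 64) n9m10 (Net.cons (nat_lit 32) n9m11 (Net.cons (nat_lit 16) n9m12 (Net.cons (nat_lit 8) n9m13 (Net.cons (nat_lit 4) n9m14 (Net.cons (nat_lit 2) n9m15 (Net.cons (nat_lit 1)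 n9m16 (Net.cons (nat_lit 2) n9m17 (Net.cons (nat_lit 4) n9m18 (Net.cons (nat_lit 8) n9m19 (Net.cons (nat_lit 16) n9m20 (Net.cons (nat_lit 32) n9m21 (Net.cons (nat_lit 64) n9m22 (Net.cons (nat_lit 128) n9m23 (Net.cons (nat_lit 256) n9m24 (Net.cons (nat_lit 512) n9m25 (Net.cons (nat_lit 1024) n9m26 (Net.cons (nat_lit 2048) n9m27 (Net.cons (nat_lit 4096) n9m28 (Net.cons (nat_lit 8192) n9m29 (Net.cons (nat_lit 16384) n9m30 (Net.cons (nat_lit 32768) n9m31 (Net.cons (nat_lit 65536) n9m32 Net.nil)))))))))))))))))))))))))))))))))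
noncomputable def n10 : Net := (Net.cons (nat_lit 65536) n10m0 (Net.cons (nat_lit 32768) n10m1 (Net.cons (nat_lit 16384) n10m2 (Net.cons (nat_lit 8192) n10m3 (Net.cons (nat_lit 4096) n10m4 (Net.cons (nat_lit 2048) n10m5 (Net.cons (nat_lit 1024) n10m6 (Net.cons (nat_lit 512) n10m7 (Net.cons (nat_lit 256) n10m8 (Net.cons (nat_lit 128) n10m9 (Net.cons (nat_lit 64) n10m10 (Net.cons (nat_lit 32) n10m11 (Net.cons (nat_lit 16) n10m12 (Net.cons (nat_lit 8) n10m13 (Net.cons (nat_lit 4) n10m14 (Net.cons (nat_lit 2) n10m15 (Net.cons (nat_lit 1) n10m16 (Net.cons (nat_lit 2) n10m17 (Net.cons (nat_lit 4) n10m18 (Net.cons (nat_lit 8) n10m19 (Net.cons (nat_lit 16) n10m20 (Net.cons (nat_lit 32) n10m21 (Net.cons (nat_lit 64) n10m22 (Net.cons (nat_lit 128) n10m23 (Net.cons (nat_lit 256) n10m24 (Net.cons (nat_lit 512) n10m25 (Net.cons (nat_lit 1024) n10m26 (Net.cons (nat_lit 2048)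 n10m27 (Net.cons (nat_lit 4096) n10m28 (Net.cons (nat_lit 8192) n10m29 (Net.cons (nat_lit 16384) n10m30 (Net.cons (nat_lit 32768) n10m31 (Net.cons (nat_lit 65536) n10m32 Net.nil)))))))))))))))))))))))))))))))))
noncomputable def n11 : Net := (Net.cons (nat_lit 65536) n11m0 (Net.cons (nat_lit 32768) n11m1 (Net.cons (nat_lit 16384) n11m2 (Net.cons (nat_lit 8192) n11m3 (Net.cons (nat_lit 4096) n11m4 (Net.cons (nat_lit 2048) n11m5 (Net.cons (nat_lit 1024) n11m6 (Net.cons (nat_lit 512) n11m7 (Net.cons (nat_lit 256) n11m8 (Net.cons (nat_lit 128) n11m9 (Net.cons (nat_lit 64) n11m10 (Net.cons (nat_lit 32) n11m11 (Net.cons (nat_lit 16) n11m12 (Net.cons (nat_lit 8) n11m13 (Net.cons (nat_lit 4) n11m14 (Net.cons (nat_lit 2) n11m15 (Net.cons (nat_lit 1) n11m16 (Net.cons (nat_lit 2) n11m17 (Net.cons (nat_lit 4) n11m18 (Net.cons (nat_lit 8) n11m19 (Net.cons (nat_lit 16) n11m20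 (Net.cons (nat_lit 32) n11m21 (Net.cons (nat_lit 64) n11m22 (Net.cons (nat_lit 128) n11m23 (Net.cons (nat_lit 256) n11m24 (Net.cons (nat_lit 512) n11m25 (Net.cons (nat_lit 1024) n11m26 (Net.cons (nat_lit 2048) n11m27 (Net.cons (nat_lit 4096) n11m28 (Net.cons (nat_lit 8192) n11m29 (Net.cons (nat_lit 16384) n11m30 (Net.cons (nat_lit 32768) n11m31 (Net.cons (nat_lit 65536) n11m32 Net.nil)))))))))))))))))))))))))))))))))
noncomputable def n12 : Net := (Net.cons (nat_lit 65536) n12m0 (Net.cons (nat_lit 32768) n12m1 (Net.cons (nat_lit 16384) n12m2 (Net.cons (nat_lit 8192) n12m3 (Net.cons (nat_lit 4096) n12m4 (Net.cons (nat_lit 2048) n12m5 (Net.cons (nat_lit 1024) n12m6 (Net.cons (nat_lit 512) n12m7 (Net.cons (nat_lit 256) n12m8 (Net.cons (nat_lit 128) n12m9 (Net.cons (nat_lit 64) n12m10 (Net.cons (nat_lit 32) n12m11 (Net.cons (nat_lit 16) n12m12 (Net.cons (nat_lit 8)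 n12m13 (Net.cons (nat_lit 4) n12m14 (Net.cons (nat_lit 2) n12m15 (Net.cons (nat_lit 1) n12m16 (Net.cons (nat_lit 2) n12m17 (Net.cons (nat_lit 4) n12m18 (Net.cons (nat_lit 8) n12m19 (Net.cons (nat_lit 16) n12m20 (Net.cons (nat_lit 32) n12m21 (Net.cons (nat_lit 64) n12m22 (Net.cons (nat_lit 128) n12m23 (Net.cons (nat_lit 256) n12m24 (Net.cons (nat_lit 512) n12m25 (Net.cons (nat_lit 1024) n12m26 (Net.cons (nat_lit 2048) n12m27 (Net.cons (nat_lit 4096) n12m28 (Net.cons (nat_lit 8192) n12m29 (Net.cons (nat_lit 16384) n12m30 (Net.cons (nat_lit 32768) n12m31 (Net.cons (nat_lit 65536) n12m32 Net.nil)))))))))))))))))))))))))))))))))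
noncomputable def n13 : Net := (Net.cons (nat_lit 65536) n13m0 (Net.cons (nat_lit 32768) n13m1 (Net.cons (nat_lit 16384) n13m2 (Net.cons (nat_lit 8192) n13m3 (Net.cons (nat_lit 4096) n13m4 (Net.cons (nat_lit 2048) n13m5 (Net.cons (nat_lit 1024) n13m6 (Net.cons (nat_lit 512) n13m7 (Net.cons (nat_lit 256) n13m8 (Net.cons (nat_lit 128) n13m9 (Net.cons (nat_lit 64) n13m10 (Net.cons (nat_lit 32) n13m11 (Net.cons (nat_lit 16) n13m12 (Net.cons (nat_lit 8) n13m13 (Net.cons (nat_lit 4) n13m14 (Net.cons (nat_lit 2) n13m15 (Net.cons (nat_lit 1) n13m16 (Net.cons (nat_lit 2) n13m17 (Net.cons (nat_lit 4) n13m18 (Net.cons (nat_lit 8) n13m19 (Net.cons (nat_lit 16) n13m20 (Net.cons (nat_lit 32) n13m21 (Net.cons (nat_lit 64) n13m22 (Net.cons (nat_lit 128) n13m23 (Net.cons (nat_lit 256) n13m24 (Net.cons (nat_lit 512) n13m25 (Net.cons (nat_lit 1024) n13m26 (Net.cons (nat_lit 2048)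 n13m27 (Net.cons (nat_lit 4096) n13m28 (Net.cons (nat_lit 8192) n13m29 (Net.cons (nat_lit 16384) n13m30 (Net.cons (nat_lit 32768) n13m31 (Net.cons (nat_lit 65536) n13m32 Net.nil)))))))))))))))))))))))))))))))))
noncomputable def n14 : Net := (Net.cons (nat_lit 65536) n14m0 (Net.cons (nat_lit 32768) n14m1 (Net.cons (nat_lit 16384) n14m2 (Net.cons (nat_lit 8192) n14m3 (Net.cons (nat_lit 4096) n14m4 (Net.cons (nat_lit 2048) n14m5 (Net.cons (nat_lit 1024) n14m6 (Net.cons (nat_lit 512) n14m7 (Net.cons (nat_lit 256) n14m8 (Net.cons (nat_lit 128) n14m9 (Net.cons (nat_lit 64) n14m10 (Net.cons (nat_lit 32) n14m11 (Net.cons (nat_lit 16) n14m12 (Net.cons (nat_lit 8) n14m13 (Net.cons (nat_lit 4) n14m14 (Net.cons (nat_lit 2) n14m15 (Net.cons (nat_lit 1) n14m16 (Net.cons (nat_lit 2) n14m17 (Net.cons (nat_lit 4) n14m18 (Net.cons (nat_lit 8) n14m19 (Net.cons (nat_lit 16) n14m20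 (Net.cons (nat_lit 32) n14m21 (Net.cons (nat_lit 64) n14m22 (Net.cons (nat_lit 128) n14m23 (Net.cons (nat_lit 256) n14m24 (Net.cons (nat_lit 512) n14m25 (Net.cons (nat_lit 1024) n14m26 (Net.cons (nat_lit 2048) n14m27 (Net.cons (nat_lit 4096) n14m28 (Net.cons (nat_lit 8192) n14m29 (Net.cons (nat_lit 16384) n14m30 (Net.cons (nat_lit 32768) n14m31 (Net.cons (nat_lit 65536) n14m32 Net.nil)))))))))))))))))))))))))))))))))
noncomputable def n15 : Net := (Net.cons (nat_lit 65536) n15m0 (Net.cons (nat_lit 32768) n15m1 (Net.cons (nat_lit 16384) n15m2 (Net.cons (nat_lit 8192) n15m3 (Net.cons (nat_lit 4096) n15m4 (Net.cons (nat_lit 2048) n15m5 (Net.cons (nat_lit 1024) n15m6 (Net.cons (nat_lit 512) n15m7 (Net.cons (nat_lit 256) n15m8 (Net.cons (nat_lit 128) n15m9 (Net.cons (nat_lit 64) n15m10 (Net.cons (nat_lit 32) n15m11 (Net.cons (nat_lit 16) n15m12 (Net.cons (nat_lit 8)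 n15m13 (Net.cons (nat_lit 4) n15m14 (Net.cons (nat_lit 2) n15m15 (Net.cons (nat_lit 1) n15m16 (Net.cons (nat_lit 2) n15m17 (Net.cons (nat_lit 4) n15m18 (Net.cons (nat_lit 8) n15m19 (Net.cons (nat_lit 16) n15m20 (Net.cons (nat_lit 32) n15m21 (Net.cons (nat_lit 64) n15m22 (Net.cons (nat_lit 128) n15m23 (Net.cons (nat_lit 256) n15m24 (Net.cons (nat_lit 512) n15m25 (Net.cons (nat_lit 1024) n15m26 (Net.cons (nat_lit 2048) n15m27 (Net.cons (nat_lit 4096) n15m28 (Net.cons (nat_lit 8192) n15m29 (Net.cons (nat_lit 16384) n15m30 (Net.cons (nat_lit 32768) n15m31 (Net.cons (nat_lit 65536) n15m32 Net.nil)))))))))))))))))))))))))))))))))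
noncomputable def nl : List Net := [n0, n1, n2, n3, n4, n5, n6, n7, n8, n9, n10, n11, n12, n13, n14, n15]
theorem nl_ok : allL (Net.ok (nat_lit 131072)) nl = true := by decide +kernel
noncomputable def R : Rep := mkRep (nat_lit 17) (nat_lit 131072) nl (by decide +kernel) nl_ok
def defs : List (List ℕ) := []
theorem R_ge : ∀ x, 16 + defs.length ≤ x → R.p x = 1 := fun _ hx => mkRep_ge hx
def J : List ℕ := [1, 0, 0, 1, 0, 0, 0, 0, 0, 2, 1, 0, 0, 0, 0, 0, 0, 2, 0, 0, 0, 1, 0, 0, 2, 0, 2, 0, 0, 0, 1, 1, 2, 1, 1, 0, 2, 1, 2, 2, 0, 1, 2, 0, 1, 1, 2, 1, 2, 2, 0, 0, 0, 1, 0, 0, 2, 2, 2, 2, 2, 1, 1, 2, 2, 0, 1, 2, 2, 0, 1, 2, 1, 2, 1, 1, 1, 2, 2, 2, 2, 0, 0, 1, 1, 0, 0, 1, 0, 2, 2, 2, 1, 2, 1, 1, 0, 0, 1, 0, 2, 2, 1, 2, 1, 0, 0, 0, 0, 2, 2, 0, 2, 2, 2, 1, 2, 1, 1, 2, 0, 0, 1, 1, 1, 0, 1, 1, 2, 0, 2, 1, 2, 0, 2, 0, 1, 1, 2, 1, 2, 2, 0, 0, 0, 1, 0, 2, 1, 0, 2, 2, 1, 2, 2,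 2, 2, 1, 2, 0, 0, 0, 1, 1, 0, 0, 1, 1, 2, 0, 2, 0, 2, 2, 2, 0, 2, 1, 0, 2, 1, 0, 0, 0, 1, 0, 2, 2, 1, 2, 1, 2, 1, 0, 2, 2, 2, 2, 2, 1, 2, 2, 2, 2, 0, 2, 2, 1, 1, 0, 0, 2, 1, 2, 1, 2, 1, 0]
def c : List ℕ := [0, 0, 0, 1, 0, 0, 2, 0, 0, 0, 0, 0, 0, 0, 0, 0, 0, 0, 0, 0, 0, 0, 0, 0, 0, 0, 0, 0, 0, 0, 0, 0, 0, 1, 0, 0, 0, 0, 0, 0, 0, 0, 0, 0, 0, 0, 0, 0, 0, 0, 0, 0, 0, 0, 0, 0, 0, 0, 0, 0, 0, 0, 0, 0, 0, 0, 0, 0, 0, 0, 0, 0, 0, 0, 0, 0, 0, 0, 0, 0, 0, 0, 0, 0, 0, 0, 0, 0, 0, 0, 1, 0, 0, 0, 0, 0, 0, 0, 0, 0, 0, 0, 0, 0, 0, 0, 0, 0, 0, 0, 0, 0, 0, 0, 0, 0, 0, 0, 0, 0, 0, 0, 0, 0, 0, 0, 0, 0, 0, 0, 0, 0, 0, 0, 0, 0, 0, 0, 0, 0, 0, 0, 0, 0, 0, 0, 0, 0, 0, 0, 0, 0, 0, 0, 0, 0, 0, 0, 0, 0, 0, 0, 0, 0, 0, 0, 0, 0, 0, 0, 0, 0, 0, 0, 0, 0, 0, 0, 0, 0, 0, 0, 0, 0, 0, 0, 0, 0, 0, 0, 0, 0, 0, 0, 0, 0, 0, 0, 0, 0, 0, 0, 0, 0, 0, 0, 0, 0, 0, 0, 0, 0, 0, 0, 0, 0, 0, 0]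
def E : List (List ℕ × List ℕ) := covE 15 H0.MMcLp.B J
end H0.VMcLp3
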