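import Cfsg.Agent.H0.VMcLp3.D
set_option maxRecDepth 100000
set_option Elab.async false
set_option linter.unusedSectionVars false
namespace H0.VMcLp3
open H0 BN 
theorem c0 : pairsW R 0 3 ((E.drop 0).take 25) = true := by decide +kernel
theorem c1 : pairsW R 3 3 ((E.drop 0).take 25) = true := by decide +kernel
theorem c2 : pairsW R 6 3 ((E.drop 0).take 25) = true := by decide +kernel
theorem c3 : pairsW R 9 3 ((E.drop 0).take 25) = true := by decide +kernel
theorem c4 : pairsW R 12 3 ((E.drop 0).take 25) = true := by decide +kernel
theorem c5 : pairsW R 15 2 ((E.drop 0).take 25) = true := by decide +kernel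
theorem c6 : pairsW R 0 3 ((E.drop 25).take 11) = true := by decide +kernel
theorem c7 : pairsW R 3 3 ((E.drop 25).take 11) = true := by decide +kernel
theorem c8 : pairsW R 6 3 ((E.drop 25).take 11) = true := by decide +kernel
theorem c9 : pairsW R 9 3 ((E.drop 25).take 11) = true := by decide +kernel
theorem c10 : pairsW R 12 3 ((E.drop 25).take 11) = true := by decide +kernel
theorem c11 : pairsW R 15 2 ((E.drop 25).take 11) = true := by decide +kernel
theorem c12 : pairsW R 0 3 ((E.drop 36).take 11) = true := by decide +kernel
theorem c13 : pairsW R 3 3 ((E.drop 36).take 11) = true := by decide +kernel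
theorem c14 : pairsW R 6 3 ((E.drop 36).take 11) = true := by decide +kernel
theorem c15 : pairsW R 9 3 ((E.drop 36).take 11) = true := by decide +kernel
theorem c16 : pairsW R 12 3 ((E.drop 36).take 11) = true := by decide +kernel
theorem c17 : pairsW R 15 2 ((E.drop 36).take 11) = true := by decide +kernel
theorem c18 : pairsW R 0 3 ((E.drop 47).take 8) = true := by decide +kernel
theorem c19 : pairsW R 3 3 ((E.drop 47).take 8) = true := by decide +kernel
theorem c20 : pairsW R 6 3 ((E.drop 47).take 8) = true := by decide +kernel
theorem c21 : pairsW R 9 3 ((E.drop 47).take 8) = true := by decide +kernel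
theorem c22 : pairsW R 12 3 ((E.drop 47).take 8) = true := by decide +kernel
theorem c23 : pairsW R 15 2 ((E.drop 47).take 8) = true := by decide +kernel
theorem c24 : pairsW R 0 3 ((E.drop 55).take 9) = true := by decide +kernel
theorem c25 : pairsW R 3 3 ((E.drop 55).take 9) = true := by decide +kernel
theorem c26 : pairsW R 6 3 ((E.drop 55).take 9) = true := by decide +kernel
theorem c27 : pairsW R 9 3 ((E.drop 55).take 9) = true := by decide +kernel
theorem c28 : pairsW R 12 3 ((E.drop 55).take 9) = true := by decide +kernel
theorem c29 : pairsW R 15 2 ((E.drop 55).take 9) = true := by decide +kernel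
theorem c30 : pairsW R 0 3 ((E.drop 64).take 9) = true := by decide +kernel
theorem c31 : pairsW R 3 3 ((E.drop 64).take 9) = true := by decide +kernel
theorem c32 : pairsW R 6 3 ((E.drop 64).take 9) = true := by decide +kernel
theorem c33 : pairsW R 9 3 ((E.drop 64).take 9) = true := by decide +kernel
theorem c34 : pairsW R 12 3 ((E.drop 64).take 9) = true := by decide +kernel
theorem c35 : pairsW R 15 2 ((E.drop 64).take 9) = true := by decide +kernel
theorem c36 : pairsW R 0 3 ((E.drop 73).take 8) = true := by decide +kernel
theorem c37 : pairsW R 3 3 ((E.drop 73).take 8) = true := by decide +kernel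
theorem c38 : pairsW R 6 3 ((E.drop 73).take 8) = true := by decide +kernel
theorem c39 : pairsW R 9 3 ((E.drop 73).take 8) = true := by decide +kernel
theorem c40 : pairsW R 12 3 ((E.drop 73).take 8) = true := by decide +kernel
theorem c41 : pairsW R 15 2 ((E.drop 73).take 8) = true := by decide +kernel
theorem c42 : pairsW R 0 3 ((E.drop 81).take 9) = true := by decide +kernel
theorem c43 : pairsW R 3 3 ((E.drop 81).take 9) = true := by decide +kernel
theorem c44 : pairsW R 6 3 ((E.drop 81).take 9) = true := by decide +kernel
theorem c45 : pairsW R 9 3 ((E.drop 81).take 9) = true := by decide +kernel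
theorem c46 : pairsW R 12 3 ((E.drop 81).take 9) = true := by decide +kernel
theorem c47 : pairsW R 15 2 ((E.drop 81).take 9) = true := by decide +kernel
theorem c48 : pairsW R 0 3 ((E.drop 90).take 8) = true := by decide +kernel
theorem c49 : pairsW R 3 3 ((E.drop 90).take 8) = true := by decide +kernel
theorem c50 : pairsW R 6 3 ((E.drop 90).take 8) = true := by decide +kernel
theorem c51 : pairsW R 9 3 ((E.drop 90).take 8) = true := by decide +kernel
theorem c52 : pairsW R 12 3 ((E.drop 90).take 8) = true := by decide +kernel
theorem c53 : pairsW R 15 2 ((E.drop 90).take 8) = true := by decide +kernel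
theorem c54 : pairsW R 0 3 ((E.drop 98).take 7) = true := by decide +kernel
theorem c55 : pairsW R 3 3 ((E.drop 98).take 7) = true := by decide +kernel
theorem c56 : pairsW R 6 3 ((E.drop 98).take 7) = true := by decide +kernel
theorem c57 : pairsW R 9 3 ((E.drop 98).take 7) = true := by decide +kernel
theorem c58 : pairsW R 12 3 ((E.drop 98).take 7) = true := by decide +kernel
theorem c59 : pairsW R 15 2 ((E.drop 98).take 7) = true := by decide +kernel
theorem c60 : pairsW R 0 3 ((E.drop 105).take 9) = true := by decide +kernel
theorem c61 : pairsW R 3 3 ((E.drop 105).take 9) = true := by decide +kernel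
theorem c62 : pairsW R 6 3 ((E.drop 105).take 9) = true := by decide +kernel
theorem c63 : pairsW R 9 3 ((E.drop 105).take 9) = true := by decide +kernel
theorem c64 : pairsW R 12 3 ((E.drop 105).take 9) = true := by decide +kernel
theorem c65 : pairsW R 15 2 ((E.drop 105).take 9) = true := by decide +kernel
theorem c66 : pairsW R 0 3 ((E.drop 114).take 8) = true := by decide +kernel
theorem c67 : pairsW R 3 3 ((E.drop 114).take 8) = true := by decide +kernel
theorem c68 : pairsW R 6 3 ((E.drop 114).take 8) = true := by decide +kernel
theorem c69 : pairsW R 9 3 ((E.drop 114).take 8) = true := by decide +kernel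
theorem c70 : pairsW R 12 3 ((E.drop 114).take 8) = true := by decide +kernel
theorem c71 : pairsW R 15 2 ((E.drop 114).take 8) = true := by decide +kernel
theorem c72 : pairsW R 0 3 ((E.drop 122).take 7) = true := by decide +kernel
theorem c73 : pairsW R 3 3 ((E.drop 122).take 7) = true := by decide +kernel
theorem c74 : pairsW R 6 3 ((E.drop 122).take 7) = true := by decide +kernel
theorem c75 : pairsW R 9 3 ((E.drop 122).take 7) = true := by decide +kernel
theorem c76 : pairsW R 12 3 ((E.drop 122).take 7) = true := by decide +kernel
theorem c77 : pairsW R 15 2 ((E.drop 122).take 7) = true := by decide +kernel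
theorem c78 : pairsW R 0 3 ((E.drop 129).take 7) = true := by decide +kernel
theorem c79 : pairsW R 3 3 ((E.drop 129).take 7) = true := by decide +kernel
theorem c80 : pairsW R 6 3 ((E.drop 129).take 7) = true := by decide +kernel
theorem c81 : pairsW R 9 3 ((E.drop 129).take 7) = true := by decide +kernel
theorem c82 : pairsW R 12 3 ((E.drop 129).take 7) = true := by decide +kernel
theorem c83 : pairsW R 15 2 ((E.drop 129).take 7) = true := by decide +kernel
theorem c84 : pairsW R 0 3 ((E.drop 136).take 7) = true := by decide +kernel
theorem c85 : pairsW R 3 3 ((E.drop 136).take 7) = true := by decide +kernel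
theorem c86 : pairsW R 6 3 ((E.drop 136).take 7) = true := by decide +kernel
theorem c87 : pairsW R 9 3 ((E.drop 136).take 7) = true := by decide +kernel
theorem c88 : pairsW R 12 3 ((E.drop 136).take 7) = true := by decide +kernel
theorem c89 : pairsW R 15 2 ((E.drop 136).take 7) = true := by decide +kernel
theorem c90 : pairsW R 0 3 ((E.drop 143).take 7) = true := by decide +kernel
theorem c91 : pairsW R 3 3 ((E.drop 143).take 7) = true := by decide +kernel
theorem c92 : pairsW R 6 3 ((E.drop 143).take 7) = true := by decide +kernel
theorem c93 : pairsW R 9 3 ((E.drop 143).take 7) = true := by decide +kernel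
theorem c94 : pairsW R 12 3 ((E.drop 143).take 7) = true := by decide +kernel
theorem c95 : pairsW R 15 2 ((E.drop 143).take 7) = true := by decide +kernel
theorem c96 : pairsW R 0 3 ((E.drop 150).take 6) = true := by decide +kernel
theorem c97 : pairsW R 3 3 ((E.drop 150).take 6) = true := by decide +kernel
theorem c98 : pairsW R 6 3 ((E.drop 150).take 6) = true := by decide +kernel
theorem c99 : pairsW R 9 3 ((E.drop 150).take 6) = true := by decide +kernel
theorem c100 : pairsW R 12 3 ((E.drop 150).take 6) = true := by decide +kernel
theorem c101 : pairsW R 15 2 ((E.drop 150).take 6) = true := by decide +kernel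
theorem c102 : pairsW R 0 3 ((E.drop 156).take 7) = true := by decide +kernel
theorem c103 : pairsW R 3 3 ((E.drop 156).take 7) = true := by decide +kernel
theorem c104 : pairsW R 6 3 ((E.drop 156).take 7) = true := by decide +kernel
theorem c105 : pairsW R 9 3 ((E.drop 156).take 7) = true := by decide +kernel
theorem c106 : pairsW R 12 3 ((E.drop 156).take 7) = true := by decide +kernel
theorem c107 : pairsW R 15 2 ((E.drop 156).take 7) = true := by decide +kernel
theorem c108 : pairsW R 0 3 ((E.drop 163).take 7) = true := by decide +kernel
theorem c109 : pairsW R 3 3 ((E.drop 163).take 7) = true := by decide +kernel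
theorem c110 : pairsW R 6 3 ((E.drop 163).take 7) = true := by decide +kernel
theorem c111 : pairsW R 9 3 ((E.drop 163).take 7) = true := by decide +kernel
theorem c112 : pairsW R 12 3 ((E.drop 163).take 7) = true := by decide +kernel
theorem c113 : pairsW R 15 2 ((E.drop 163).take 7) = true := by decide +kernel
theorem c114 : pairsW R 0 3 ((E.drop 170).take 7) = true := by decide +kernel
theorem c115 : pairsW R 3 3 ((E.drop 170).take 7) = true := by decide +kernel
theorem c116 : pairsW R 6 3 ((E.drop 170).take 7) = true := by decide +kernel
theorem c117 : pairsW R 9 3 ((E.drop 170).take 7) = true := by decide +kernel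
theorem c118 : pairsW R 12 3 ((E.drop 170).take 7) = true := by decide +kernel
theorem c119 : pairsW R 15 2 ((E.drop 170).take 7) = true := by decide +kernel
theorem c120 : pairsW R 0 3 ((E.drop 177).take 7) = true := by decide +kernel
theorem c121 : pairsW R 3 3 ((E.drop 177).take 7) = true := by decide +kernel
theorem c122 : pairsW R 6 3 ((E.drop 177).take 7) = true := by decide +kernel
theorem c123 : pairsW R 9 3 ((E.drop 177).take 7) = true := by decide +kernel
theorem c124 : pairsW R 12 3 ((E.drop 177).take 7) = true := by decide +kernel
theorem c125 : pairsW R 15 2 ((E.drop 177).take 7) = true := by decide +kernel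
theorem c126 : pairsW R 0 3 ((E.drop 184).take 6) = true := by decide +kernel
theorem c127 : pairsW R 3 3 ((E.drop 184).take 6) = true := by decide +kernel
theorem c128 : pairsW R 6 3 ((E.drop 184).take 6) = true := by decide +kernel
theorem c129 : pairsW R 9 3 ((E.drop 184).take 6) = true := by decide +kernel
theorem c130 : pairsW R 12 3 ((E.drop 184).take 6) = true := by decide +kernel
theorem c131 : pairsW R 15 2 ((E.drop 184).take 6) = true := by decide +kernel
theorem c132 : pairsW R 0 3 ((E.drop 190).take 6) = true := by decide +kernel
theorem c133 : pairsW R 3 3 ((E.drop 190).take 6) = true := by decide +kernel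
theorem c134 : pairsW R 6 3 ((E.drop 190).take 6) = true := by decide +kernel
theorem c135 : pairsW R 9 3 ((E.drop 190).take 6) = true := by decide +kernel
theorem c136 : pairsW R 12 3 ((E.drop 190).take 6) = true := by decide +kernel
theorem c137 : pairsW R 15 2 ((E.drop 190).take 6) = true := by decide +kernel
theorem c138 : pairsW R 0 3 ((E.drop 196).take 6) = true := by decide +kernel
theorem c139 : pairsW R 3 3 ((E.drop 196).take 6) = true := by decide +kernel
theorem c140 : pairsW R 6 3 ((E.drop 196).take 6) = true := by decide +kernel
theorem c141 : pairsW R 9 3 ((E.drop 196).take 6) = true := by decide +kernel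
theorem c142 : pairsW R 12 3 ((E.drop 196).take 6) = true := by decide +kernel
theorem c143 : pairsW R 15 2 ((E.drop 196).take 6) = true := by decide +kernel
theorem c144 : pairsW R 0 3 ((E.drop 202).take 6) = true := by decide +kernel
end H0.VMcLp3
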