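import Cfsg.Agent.H0.VMcLp3.K0
import Cfsg.Agent.H0.VMcLp3.K1
set_option maxRecDepth 100000
set_option Elab.async false
set_option linter.unusedSectionVars false
namespace H0.VMcLp3
open H0 BN 
universe u
theorem stem {G : Type u} [Group G] [Finite G] (P : Pres G 15 H0.MMcLp.B) (hG : commutator G = ⊤) : StemElt G (3 ^ (0 + 1)) :=
  stemElt_of P hG R.p J c (by decide) (all_take_done (all_take_step (all_take_step (all_take_step (all_take_step (all_take_step (all_take_step (all_take_step (all_take_step (all_take_step (all_take_step (all_take_step (all_take_step (all_take_step (all_take_step (all_take_step (all_take_step (all_take_step (all_take_step (all_take_step (all_take_step (all_take_step (all_take_step (all_take_step (all_take_step (all_take_step (all_take_step (all_take_step (all_take_step (all_take_zero _ E) (pw_done R (pw_step R (pw_step R (pw_step R (pw_step R (pw_step R (pw_step R (pw_zero R ((E.drop 0).take 25)) c0) c1) c2) c3) c4) c5))) (pw_done R (pw_step R (pw_step R (pw_step R (pw_step R (pw_step R (pw_step R (pw_zero R ((E.drop 25).take 11)) c6) c7) c8) c9)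 c10) c11))) (pw_done R (pw_step R (pw_step R (pw_step R (pw_step R (pw_step R (pw_step R (pw_zero R ((E.drop 36).take 11)) c12) c13) c14) c15) c16) c17))) (pw_done R (pw_step R (pw_step R (pw_step R (pw_step R (pw_step R (pw_step R (pw_zero R ((E.drop 47).take 8)) c18) c19) c20) c21) c22) c23))) (pw_done R (pw_step R (pw_step R (pw_step R (pw_step R (pw_step R (pw_step R (pw_zero R ((E.drop 55).take 9)) c24) c25) c26) c27) c28) c29))) (pw_done R (pw_step R (pw_step R (pw_step R (pw_step R (pw_step R (pw_step R (pw_zero R ((E.drop 64).take 9)) c30) c31) c32) c33) c34) c35))) (pw_done R (pw_step R (pw_step R (pw_step R (pw_step R (pw_step R (pw_step R (pw_zero R ((E.drop 73).take 8)) c36) c37) c38) c39) c40) c41))) (pw_done R (pw_step R (pw_step R (pw_step R (pw_step R (pw_step R (pw_step R (pw_zero R ((E.drop 81).take 9)) c42) c43) c44) c45) c46) c47))) (pw_done R (pw_step R (pw_step R (pw_step R (pw_step R (pw_step R (pw_step R (pw_zero R ((E.drop 90).take 8)) c48) c49) c50) c51) c52) c53))) (pw_done R (pw_step R (pw_step R (pw_step R (pw_step R (pw_step R (pw_step R (pw_zero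 R ((E.drop 98).take 7)) c54) c55) c56) c57) c58) c59))) (pw_done R (pw_step R (pw_step R (pw_step R (pw_step R (pw_step R (pw_step R (pw_zero R ((E.drop 105).take 9)) c60) c61) c62) c63) c64) c65))) (pw_done R (pw_step R (pw_step R (pw_step R (pw_step R (pw_step R (pw_step R (pw_zero R ((E.drop 114).take 8)) c66) c67) c68) c69) c70) c71))) (pw_done R (pw_step R (pw_step R (pw_step R (pw_step R (pw_step R (pw_step R (pw_zero R ((E.drop 122).take 7)) c72) c73) c74) c75) c76) c77))) (pw_done R (pw_step R (pw_step R (pw_step R (pw_step R (pw_step R (pw_step R (pw_zero R ((E.drop 129).take 7)) c78) c79) c80) c81) c82) c83))) (pw_done R (pw_step R (pw_step R (pw_step R (pw_step R (pw_step R (pw_step R (pw_zero R ((E.drop 136).take 7)) c84) c85) c86) c87) c88) c89))) (pw_done R (pw_step R (pw_step R (pw_step R (pw_step R (pw_step R (pw_step R (pw_zero R ((E.drop 143).take 7)) c90) c91) c92) c93) c94) c95))) (pw_done R (pw_step R (pw_step R (pw_step R (pw_step R (pw_step R (pw_step R (pw_zero R ((E.drop 150).take 6)) c96) c97) c98) c99) c100) c101))) (pw_done R (pw_step R (pw_step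 R (pw_step R (pw_step R (pw_step R (pw_step R (pw_zero R ((E.drop 156).take 7)) c102) c103) c104) c105) c106) c107))) (pw_done R (pw_step R (pw_step R (pw_step R (pw_step R (pw_step R (pw_step R (pw_zero R ((E.drop 163).take 7)) c108) c109) c110) c111) c112) c113))) (pw_done R (pw_step R (pw_step R (pw_step R (pw_step R (pw_step R (pw_step R (pw_zero R ((E.drop 170).take 7)) c114) c115) c116) c117) c118) c119))) (pw_done R (pw_step R (pw_step R (pw_step R (pw_step R (pw_step R (pw_step R (pw_zero R ((E.drop 177).take 7)) c120) c121) c122) c123) c124) c125))) (pw_done R (pw_step R (pw_step R (pw_step R (pw_step R (pw_step R (pw_step R (pw_zero R ((E.drop 184).take 6)) c126) c127) c128) c129) c130) c131))) (pw_done R (pw_step R (pw_step R (pw_step R (pw_step R (pw_step R (pw_step R (pw_zero R ((E.drop 190).take 6)) c132) c133) c134) c135) c136) c137))) (pw_done R (pw_step R (pw_step R (pw_step R (pw_step R (pw_step R (pw_step R (pw_zero R ((E.drop 196).take 6)) c138) c139) c140) c141) c142) c143))) (pw_done R (pw_step R (pw_step R (pw_step R (pw_step R (pw_step R (pw_step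 R (pw_zero R ((E.drop 202).take 6)) c144) c145) c146) c147) c148) c149))) (pw_done R (pw_step R (pw_step R (pw_step R (pw_step R (pw_step R (pw_step R (pw_zero R ((E.drop 208).take 6)) c150) c151) c152) c153) c154) c155))) (pw_done R (pw_step R (pw_step R (pw_step R (pw_step R (pw_step R (pw_step R (pw_zero R ((E.drop 214).take 13)) c156) c157) c158) c159) c160) c161))) (pw_done R (pw_step R (pw_step R (pw_step R (pw_step R (pw_step R (pw_step R (pw_zero R ((E.drop 227).take 6)) c162) c163) c164) c165) c166) c167))) (by decide +kernel)) (eq_of_bits R (eqb_step R (eqb_step R (eqb_step R (eqb_step R (eqb_step R (eqb_step R (eqb_zero R [15, 15, 15] []) c168) c169) c170) c171) c172) c173))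
    (ne_one_of_maps R (u := [15]) c174 (by decide)) (by decide +kernel)
end H0.VMcLp3
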